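import Mathlib

/-!
# Elements of order 3 acting on an extraspecial 2-group: many conjugates (helper98)

`Sit C R z` : `R ≤ C` is normalised by `C`, `z` is central in `C`, `R / ⟨z⟩` is elementary abelian with a
nondegenerate commutator form. For `g ∈ C`, `Wn z R g = [R, g]⟨z⟩`.
* `Sit.exists_four` : `Wn s` contains an element of order 4, for `s` of order 3 acting nontrivially on `R`;
* `Sit.count` : if `C` is transitive (modulo `z`) on the elements of order 4 of `R`, then
  `|{elements of order 4}| ≤ n * m` and `w * m ≤ |s ^ C|`, `n` the number of elements of order 4 in `Wn s`, `w = |s ^ R|`.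
-/

set_option autoImplicit false

namespace Cfsg.Agent.H98.Ex2

open Subgroup

structure Sit {F : Type*} [Group F] (C R : Subgroup F) (z : F) : Prop where
  zz : z * z = 1
  z1 : z ≠ 1
  zR : z ∈ R
  sq : ∀ r ∈ R, r * r = 1 ∨ r * r = z
  com : ∀ r ∈ R, ∀ t ∈ R, r * t = t * r ∨ r * t = z * (t * r)
  ctr : ∀ r ∈ R, (∀ t ∈ R, t * r = r * t) → r = 1 ∨ r = z
  RC : R ≤ C
  Cz : ∀ g ∈ C, g * z = z * g
  CR : ∀ g ∈ C, ∀ r ∈ R, g * r * g⁻¹ ∈ R

section

variable {F : Type*} [Group F] {C R : Subgroup F} {z : F}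

/-- `[R, g]⟨z⟩` -/
def Wn (z : F) (R : Subgroup F) (g : F) : Set F :=
  {x | ∃ q ∈ R, x = q * g * q⁻¹ * g⁻¹ ∨ x = z * (q * g * q⁻¹ * g⁻¹)}

/-- orbit-stabiliser for conjugation -/
theorem card_orb (H : Subgroup F) (x : F) :
    Nat.card H = {y | ∃ g ∈ H, g * x * g⁻¹ = y}.ncard * Nat.card ↥(H ⊓ centralizer ({x} : Set F)) := by
  let _ : MulAction H F := MulAction.compHom F ((MulAut.conj : F →* MulAut F).comp H.subtype)
  have hs : ∀ (g : H) (y : F), g • y = (g : F) * y * (g : F)⁻¹ := fun _ _ => rfl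
  have h1 : MulAction.orbit H x = {y | ∃ g ∈ H, g * x * g⁻¹ = y} := by
    ext y
    rw [MulAction.mem_orbit_iff]
    constructor
    · rintro ⟨g, rfl⟩
      exact ⟨g, g.2, (hs g x).symm⟩
    · rintro ⟨g, hg, rfl⟩
      exact ⟨⟨g, hg⟩, hs ⟨g, hg⟩ x⟩
  have h2 : Nat.card ↥(MulAction.stabilizer H x) = Nat.card ↥(H ⊓ centralizer ({x} : Set F)) := by
    refine Nat.card_congr
      { toFun := fun g => ⟨(g : H), (g : H).2, ?_⟩
        invFun := fun g => ⟨⟨g, g.2.1⟩, ?_⟩
        left_inv := fun g => rfl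
        right_inv := fun g => rfl }
    · have h3 := g.2
      rw [MulAction.mem_stabilizer_iff, hs] at h3
      exact mem_centralizer_singleton_iff.2 (mul_inv_eq_iff_eq_mul.1 h3)
    · rw [MulAction.mem_stabilizer_iff, hs]
      exact mul_inv_eq_iff_eq_mul.2 (mem_centralizer_singleton_iff.1 g.2.2)
  rw [← h2, ← h1, ← MulAction.index_stabilizer, Subgroup.index_mul_card]

theorem Sit.comm_cases (h : Sit C R z) {r t : F} (hr : r ∈ R) (ht : t ∈ R) :
    r * t * r⁻¹ = t ∨ r * t * r⁻¹ = z * t := by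
  rcases h.com r hr t ht with h1 | h1
  · left; rw [h1]; group
  · right; rw [h1]; group

theorem Sit.Wn_R (h : Sit C R z) {g : F} (hg : g ∈ C) {x : F} (hx : x ∈ Wn z R g) : x ∈ R := by
  obtain ⟨q, hq, hx⟩ := hx
  have h1 : q * g * q⁻¹ * g⁻¹ ∈ R := by
    have h2 : q * g * q⁻¹ * g⁻¹ = q * (g * q⁻¹ * g⁻¹) := by group
    rw [h2]
    exact R.mul_mem hq (h.CR g hg _ (R.inv_mem hq))
  rcases hx with rfl | rfl
  · exact h1
  · exact R.mul_mem h.zR h1

theorem Sit.Wn_z (h : Sit C R z) {g x : F} (hx : x ∈ Wn z R g) : z * x ∈ Wn z R g := by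
  obtain ⟨q, hq, hx⟩ := hx
  rcases hx with rfl | rfl
  · exact ⟨q, hq, Or.inr rfl⟩
  · refine ⟨q, hq, Or.inl ?_⟩
    rw [← mul_assoc, h.zz, one_mul]

/-- conjugation -/
theorem Sit.Wn_conj (h : Sit C R z) {g a x : F} (ha : a ∈ C) (hx : x ∈ Wn z R g) :
    a * x * a⁻¹ ∈ Wn z R (a * g * a⁻¹) := by
  obtain ⟨q, hq, hx⟩ := hx
  refine ⟨a * q * a⁻¹, h.CR a ha q hq, ?_⟩
  have h1 : (a * q * a⁻¹) * (a * g * a⁻¹) * (a * q * a⁻¹)⁻¹ * (a * g * a⁻¹)⁻¹ = a * (q * g * q⁻¹ * g⁻¹) * a⁻¹ := by
    group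
  rw [h1]
  rcases hx with rfl | rfl
  · left; rfl
  · right
    calc a * (z * (q * g * q⁻¹ * g⁻¹)) * a⁻¹ = (a * z) * (q * g * q⁻¹ * g⁻¹) * a⁻¹ := by group
      _ = (z * a) * (q * g * q⁻¹ * g⁻¹) * a⁻¹ := by rw [h.Cz a ha]
      _ = _ := by group

theorem Sit.Wn_conj_iff (h : Sit C R z) {g a x : F} (ha : a ∈ C) :
    x ∈ Wn z R (a * g * a⁻¹) ↔ a⁻¹ * x * a ∈ Wn z R g := by
  constructor
  · intro hx
    have h1 := h.Wn_conj (C.inv_mem ha) hx
    have h2 : a⁻¹ * (a * g * a⁻¹) * a⁻¹⁻¹ = g := by group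
    rw [h2, inv_inv] at h1
    exact h1
  · intro hx
    have h1 := h.Wn_conj ha hx
    have h2 : a * (a⁻¹ * x * a) * a⁻¹ = x := by group
    rwa [h2] at h1

/-- `R` acts trivially on the set of the `Wn` -/
theorem Sit.Wn_R_conj (h : Sit C R z) {g q : F} (hg : g ∈ C) (hq : q ∈ R) :
    Wn z R (q * g * q⁻¹) = Wn z R g := by
  ext x
  have key : ∀ (g : F) (hg : g ∈ C) (q : F) (hq : q ∈ R) (x : F) (hx : x ∈ Wn z R g), q * x * q⁻¹ ∈ Wn z R g := by
    intro g hg q hq x hx
    rcases h.comm_cases hq (h.Wn_R hg hx) with h1 | h1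
    · rw [h1]; exact hx
    · rw [h1]; exact h.Wn_z hx
  rw [h.Wn_conj_iff (h.RC hq)]
  constructor
  · intro hx
    have h1 := key g hg q hq _ hx
    have h2 : q * (q⁻¹ * x * q) * q⁻¹ = x := by group
    rwa [h2] at h1
  · intro hx
    have h1 := key g hg q⁻¹ (R.inv_mem hq) _ hx
    rwa [inv_inv] at h1

/-- the `R`-class -/
def cls (R : Subgroup F) (g : F) : Set F := {y | ∃ q ∈ R, q * g * q⁻¹ = y}

theorem Sit.cls_conj (h : Sit C R z) {g a : F} (ha : a ∈ C) :
    (cls R (a * g * a⁻¹)).ncard = (cls R g).ncard := by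
  have h1 : cls R (a * g * a⁻¹) = (fun y => a * y * a⁻¹) '' cls R g := by
    ext y
    constructor
    · rintro ⟨q, hq, rfl⟩
      refine ⟨(a⁻¹ * q * a) * g * (a⁻¹ * q * a)⁻¹, ⟨_, ?_, rfl⟩, ?_⟩
      · have h2 := h.CR a⁻¹ (C.inv_mem ha) q hq
        rwa [inv_inv] at h2
      · show a * ((a⁻¹ * q * a) * g * (a⁻¹ * q * a)⁻¹) * a⁻¹ = _
        group
    · rintro ⟨_, ⟨q, hq, rfl⟩, rfl⟩
      refine ⟨a * q * a⁻¹, h.CR a ha q hq, ?_⟩
      show _ = a * (q * g * q⁻¹) * a⁻¹
      group
  rw [h1]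
  exact Set.ncard_image_of_injective _ (fun x y hxy => mul_left_cancel (mul_right_cancel hxy))

/-- the elements of order 4 -/
def four (z : F) (R : Subgroup F) : Set F := {x | x ∈ R ∧ x * x = z}

theorem Sit.four_conj (h : Sit C R z) {g a : F} (ha : a ∈ C) :
    (four z R ∩ Wn z R (a * g * a⁻¹)).ncard = (four z R ∩ Wn z R g).ncard := by
  have h1 : four z R ∩ Wn z R (a * g * a⁻¹) = (fun y => a * y * a⁻¹) '' (four z R ∩ Wn z R g) := by
    have key : ∀ a ∈ C, ∀ y ∈ four z R, a * y * a⁻¹ ∈ four z R := by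
      rintro a ha y ⟨hy, hy'⟩
      refine ⟨h.CR a ha y hy, ?_⟩
      calc a * y * a⁻¹ * (a * y * a⁻¹) = a * (y * y) * a⁻¹ := by group
        _ = (a * z) * a⁻¹ := by rw [hy']
        _ = z := by rw [h.Cz a ha]; group
    ext y
    constructor
    · rintro ⟨h1, h2⟩
      refine ⟨a⁻¹ * y * a, ⟨?_, (h.Wn_conj_iff ha).1 h2⟩, ?_⟩
      · have h3 := key a⁻¹ (C.inv_mem ha) y h1
        rwa [inv_inv] at h3
      · show a * (a⁻¹ * y * a) * a⁻¹ = y
        group
    · rintro ⟨y, ⟨h1, h2⟩, rfl⟩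
      exact ⟨key a ha y h1, h.Wn_conj ha h2⟩
  rw [h1]
  exact Set.ncard_image_of_injective _ (fun x y hxy => mul_left_cancel (mul_right_cancel hxy))

/-- **counting** -/
theorem Sit.count [Finite F] (h : Sit C R z) {s : F} (hs : s ∈ C)
    (htr : ∀ u ∈ four z R, ∀ t ∈ four z R, ∃ g ∈ C, g * u * g⁻¹ = t ∨ g * u * g⁻¹ = z * t)
    (hne : (four z R ∩ Wn z R s).Nonempty) :
    ∃ m : ℕ, (four z R).ncard ≤ (four z R ∩ Wn z R s).ncard * m ∧ (cls R s).ncard * m ≤ (cls C s).ncard := by
  classical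
  have hf : Fintype F := Fintype.ofFinite F
  obtain ⟨u, hu, huW⟩ := hne
  set S : Finset F := (cls C s).toFinset with hS
  set O : Finset F := (four z R).toFinset with hO
  set f : F → Set F := fun y => Wn z R y with hf'
  have hSm : ∀ y, y ∈ S ↔ ∃ g ∈ C, g * s * g⁻¹ = y := by
    intro y
    rw [hS, Set.mem_toFinset]
    exact Iff.rfl
  have hOm : ∀ y, y ∈ O ↔ y ∈ four z R := by
    intro y
    rw [hO, Set.mem_toFinset]
  refine ⟨(S.image f).card, ?_, ?_⟩
  · -- choose an image for each element of order 4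
    have h1 : ∀ t ∈ O, ∃ y ∈ S, t ∈ Wn z R y := by
      intro t ht
      obtain ⟨g, hg, h2⟩ := htr u hu t ((hOm t).1 ht)
      refine ⟨g * s * g⁻¹, (hSm _).2 ⟨g, hg, rfl⟩, ?_⟩
      have h3 := h.Wn_conj hg huW
      rcases h2 with h2 | h2
      · rwa [h2] at h3
      · rw [h2] at h3
        have h4 := h.Wn_z h3
        rwa [← mul_assoc, h.zz, one_mul] at h4
    choose! y hy hty using h1
    have h2 : (four z R).ncard = O.card := by rw [hO, Set.ncard_eq_toFinset_card']
    rw [h2]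
    refine Finset.card_le_mul_card_image_of_maps_to (f := fun t => f (y t)) (fun t ht => Finset.mem_image_of_mem _ (hy t ht)) _ ?_
    intro b hb
    obtain ⟨x, hx, rfl⟩ := Finset.mem_image.1 hb
    obtain ⟨g, hg, rfl⟩ := (hSm x).1 hx
    rw [← h.four_conj hg, Set.ncard_eq_toFinset_card']
    refine Finset.card_le_card ?_
    intro t ht
    rw [Finset.mem_filter] at ht
    rw [Set.mem_toFinset]
    refine ⟨(hOm t).1 ht.1, ?_⟩
    have h3 := hty t ht.1
    have h4 : Wn z R (y t) = Wn z R (g * s * g⁻¹) := ht.2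
    rwa [h4] at h3
  · have h2 : (cls C s).ncard = S.card := by rw [hS, Set.ncard_eq_toFinset_card']
    rw [h2]
    refine Finset.mul_card_image_le_card S _ ?_
    intro b hb
    obtain ⟨x, hx, rfl⟩ := Finset.mem_image.1 hb
    obtain ⟨g, hg, rfl⟩ := (hSm x).1 hx
    rw [← h.cls_conj hg, Set.ncard_eq_toFinset_card']
    refine Finset.card_le_card ?_
    intro t ht
    rw [Set.mem_toFinset] at ht
    obtain ⟨q, hq, rfl⟩ := ht
    rw [Finset.mem_filter]
    refine ⟨(hSm _).2 ⟨q * g, C.mul_mem (h.RC hq) hg, by group⟩, ?_⟩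
    exact h.Wn_R_conj (C.mul_mem (C.mul_mem hg hs) (C.inv_mem hg)) hq

/-- the elements of order 4 in `Wn g` -/
theorem Sit.four_le [Finite F] (h : Sit C R z) (g : F) :
    (four z R ∩ Wn z R g).ncard + 2 ≤ 2 * (cls R g).ncard := by
  classical
  have hf : Fintype F := Fintype.ofFinite F
  have h1 : Wn z R g = (fun y => y * g⁻¹) '' cls R g ∪ (fun y => z * (y * g⁻¹)) '' cls R g := by
    ext x
    constructor
    · rintro ⟨q, hq, rfl | rfl⟩
      · exact Or.inl ⟨_, ⟨q, hq, rfl⟩, rfl⟩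
      · exact Or.inr ⟨_, ⟨q, hq, rfl⟩, rfl⟩
    · rintro (⟨_, ⟨q, hq, rfl⟩, rfl⟩ | ⟨_, ⟨q, hq, rfl⟩, rfl⟩)
      · exact ⟨q, hq, Or.inl rfl⟩
      · exact ⟨q, hq, Or.inr rfl⟩
  have h2 : (Wn z R g).ncard ≤ 2 * (cls R g).ncard := by
    rw [h1]
    refine (Set.ncard_union_le _ _).trans ?_
    have h3 := Set.ncard_image_le (f := fun y => y * g⁻¹) (Set.toFinite (cls R g))
    have h4 := Set.ncard_image_le (f := fun y => z * (y * g⁻¹)) (Set.toFinite (cls R g))
    omega
  refine le_trans ?_ h2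
  have h3 : (four z R ∩ Wn z R g) ⊆ Wn z R g \ {1, z} := by
    rintro x ⟨⟨hx, hx'⟩, hxW⟩
    refine ⟨hxW, ?_⟩
    rintro (rfl | rfl)
    · rw [mul_one] at hx'
      exact h.z1 hx'.symm
    · rw [h.zz] at hx'
      exact h.z1 hx'.symm
  have h4 : ({1, z} : Set F) ⊆ Wn z R g := by
    have h5 : (1 : F) ∈ Wn z R g := ⟨1, R.one_mem, Or.inl (by group)⟩
    rintro x (rfl | rfl)
    · exact h5
    · have h6 := h.Wn_z h5
      rwa [mul_one] at h6
  have h5 := Set.ncard_le_ncard h3 (Set.toFinite _)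
  have h6 := Set.ncard_sdiff_add_ncard_of_subset h4 (Set.toFinite _)
  rw [Set.ncard_pair h.z1.symm] at h6
  omega

/-- `|s ^ R|` is a power of 2 -/
theorem card_cls (R : Subgroup F) (g : F) : (cls R g).ncard * Nat.card ↥(R ⊓ centralizer ({g} : Set F)) = Nat.card R :=
  (card_orb R g).symm

/-- elements commuting with their conjugates: polarisation -/
theorem Sit.exists_four (h : Sit C R z) {s : F} (hs : s ∈ C) (h3 : s ^ 3 = 1) (hn : ∃ r ∈ R, s * r * s⁻¹ ≠ r) :
    (four z R ∩ Wn z R s).Nonempty := by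
  by_contra hE
  have hE' : ∀ u ∈ Wn z R s, u * u ≠ z := by
    intro u hu hu'
    exact hE ⟨u, ⟨h.Wn_R hs hu, hu'⟩, hu⟩
  have hzc : ∀ r ∈ R, r * z = z * r := fun r hr => h.Cz r (h.RC hr)
  have hsR : ∀ r ∈ R, s * r * s⁻¹ ∈ R := h.CR s hs
  have hsR' : ∀ r ∈ R, s⁻¹ * r * s ∈ R := by
    intro r hr
    have h1 := h.CR s⁻¹ (C.inv_mem hs) r hr
    rwa [inv_inv] at h1
  have hsz : s * z = z * s := h.Cz s hs
  have hsz' : s⁻¹ * z = z * s⁻¹ := h.Cz s⁻¹ (C.inv_mem hs)
  -- every `q` commutes with its conjugate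
  have h1 : ∀ q ∈ R, q * (s * q * s⁻¹) = (s * q * s⁻¹) * q := by
    intro q hq
    rcases h.com q hq _ (hsR q hq) with h1 | h1
    · exact h1
    exfalso
    set b := s * q * s⁻¹ with hb
    have hbb : b * b = q * q := by
      rcases h.sq q hq with h2 | h2
      · rw [h2]
        calc b * b = s * (q * q) * s⁻¹ := by rw [hb]; group
          _ = 1 := by rw [h2]; group
      · rw [h2]
        calc b * b = s * (q * q) * s⁻¹ := by rw [hb]; group
          _ = s * z * s⁻¹ := by rw [h2]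
          _ = z := by rw [hsz]; group
    refine hE' (q * s * q⁻¹ * s⁻¹) ⟨q, hq, Or.inl rfl⟩ ?_
    have e1 : q * s * q⁻¹ * s⁻¹ = q * b⁻¹ := by rw [hb]; group
    have hb2 : b⁻¹ = b * (b * b)⁻¹ := by group
    have hqq : (q * q) * (q * q) = 1 := by
      rcases h.sq q hq with h2 | h2
      · rw [h2, mul_one]
      · rw [h2, h.zz]
    have hbc : b * (q * q) = (q * q) * b := by
      rw [← hbb]
      exact (mul_assoc b b b).symm
    have hinv : (q * q)⁻¹ = q * q := inv_eq_of_mul_eq_one_left hqq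
    rw [e1, hb2, hbb, hinv]
    calc q * (b * (q * q)) * (q * (b * (q * q))) = q * b * (q * q) * q * b * (q * q) := by group
      _ = (q * b) * (q * b) * ((q * q) * (q * q)) := by
        have e2 : q * b * (q * q) * q * b * (q * q) = q * (b * (q * q)) * (q * b) * (q * q) := by group
        rw [e2, hbc]
        have e3 : q * (q * q * b) * (q * b) * (q * q) = (q * q) * q * (b * q) * b * (q * q) := by group
        rw [e3]
        have e4 : b * (b * q) = (b * b) * q := by group
        have e5 : (q * b) * (q * b) * ((q * q) * (q * q)) = q * b * q * (b * (q * q)) * (q * q) := by group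
        rw [e5, hbc]
        have e6 : q * b * q * (q * q * b) * (q * q) = q * (b * (q * q)) * q * b * (q * q) := by group
        rw [e6, hbc]
        group
      _ = (q * b) * (q * b) := by rw [hqq, mul_one]
      _ = (z * (b * q)) * (q * b) := by rw [← h1]
      _ = z * (b * (q * q) * b) := by group
      _ = z * ((q * q) * (b * b)) := by rw [hbc]; group
      _ = z := by rw [hbb, hqq, mul_one]
  -- polarisation
  have h2 : ∀ q ∈ R, s * q * s⁻¹ = q := by
    intro q hq
    have hy : ∀ p ∈ R, p * ((s * q * s⁻¹) * (s⁻¹ * q * s)⁻¹) = ((s * q * s⁻¹) * (s⁻¹ * q * s)⁻¹) * p := by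
      intro p hp
      set p' := s * p * s⁻¹ with hp'
      set q' := s * q * s⁻¹ with hq'
      have hp'R : p' ∈ R := hsR p hp
      have hq'R : q' ∈ R := hsR q hq
      have hpp := h1 p hp
      have hqq := h1 q hq
      have hpq := h1 (p * q) (R.mul_mem hp hq)
      have e1 : s * (p * q) * s⁻¹ = p' * q' := by rw [hp', hq']; group
      rw [e1] at hpq
      rw [← hp'] at hpp
      rw [← hq'] at hqq
      -- (s⁻¹ q s) and p
      set q'' := s⁻¹ * q * s with hq''
      have hq''R : q'' ∈ R := hsR' q hq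
      have ez : ∀ a b : F, z * a = z * b → a = b := fun a b hab => mul_left_cancel hab
      have hcase : (p * q' = q' * p ∧ p * q'' = q'' * p) ∨ (p * q' = z * (q' * p) ∧ p * q'' = z * (q'' * p)) := by
        -- relation of `q'' p` and `q p'`
        have hconj : ∀ {x y : F}, q * p' = z * (p' * q) → q'' * p = z * (p * q'') := by
          intro _ _ h3
          calc q'' * p = s⁻¹ * (q * p') * s := by rw [hq'', hp']; group
            _ = s⁻¹ * z * (p' * q) * s := by rw [h3]; group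
            _ = z * s⁻¹ * (p' * q) * s := by rw [hsz']
            _ = z * (p * q'') := by rw [hq'', hp']; group
        have hconj' : q * p' = p' * q → q'' * p = p * q'' := by
          intro h3
          calc q'' * p = s⁻¹ * (q * p') * s := by rw [hq'', hp']; group
            _ = s⁻¹ * (p' * q) * s := by rw [h3]
            _ = p * q'' := by rw [hq'', hp']; group
        rcases h.com p hp q' hq'R with h3 | h3 <;> rcases h.com q hq p' hp'R with h4 | h4
        · exact Or.inl ⟨h3, (hconj' h4).symm⟩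
        · exfalso
          apply h.z1
          have e2 : (p * q) * (p' * q') = z * ((p' * q') * (p * q)) := by
            calc (p * q) * (p' * q') = p * (q * p') * q' := by group
              _ = (p * z) * p' * (q * q') := by rw [h4]; group
              _ = z * (p * p') * (q * q') := by rw [hzc p hp]; group
              _ = z * (p' * p) * (q' * q) := by rw [hpp, hqq]
              _ = z * (p' * (p * q') * q) := by group
              _ = z * (p' * (q' * p) * q) := by rw [h3]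
              _ = _ := by group
          rw [hpq] at e2
          exact (mul_eq_right.1 e2.symm)
        · exfalso
          apply h.z1
          have e2 : (p * q) * (p' * q') = z * ((p' * q') * (p * q)) := by
            calc (p * q) * (p' * q') = p * (q * p') * q' := by group
              _ = (p * p') * (q * q') := by rw [h4]; group
              _ = (p' * p) * (q' * q) := by rw [hpp, hqq]
              _ = (p' * (p * q') * q) := by group
              _ = ((p' * z) * (q' * p) * q) := by rw [h3]; group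
              _ = z * ((p' * q') * (p * q)) := by rw [hzc p' hp'R]; group
          rw [hpq] at e2
          exact (mul_eq_right.1 e2.symm)
        · refine Or.inr ⟨h3, ?_⟩
          have h5 := hconj (x := 1) (y := 1) h4
          rw [h5, ← mul_assoc z z, h.zz, one_mul]
      rcases hcase with ⟨h3, h4⟩ | ⟨h3, h4⟩
      · have e3 : p * q''⁻¹ = q''⁻¹ * p := by
          calc p * q''⁻¹ = q''⁻¹ * (q'' * p) * q''⁻¹ := by group
            _ = q''⁻¹ * (p * q'') * q''⁻¹ := by rw [h4]
            _ = _ := by group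
        calc p * (q' * q''⁻¹) = (p * q') * q''⁻¹ := by group
          _ = q' * (p * q''⁻¹) := by rw [h3]; group
          _ = q' * q''⁻¹ * p := by rw [e3]; group
      · have e3 : p * q''⁻¹ = z * (q''⁻¹ * p) := by
          have e4 : q''⁻¹ * z = z * q''⁻¹ := hzc _ (R.inv_mem hq''R)
          calc p * q''⁻¹ = q''⁻¹ * (q'' * p) * q''⁻¹ := by group
            _ = q''⁻¹ * (z * (z * (q'' * p))) * q''⁻¹ := by rw [← mul_assoc z z, h.zz, one_mul]
            _ = q''⁻¹ * (z * (p * q'')) * q''⁻¹ := by rw [← h4]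
            _ = (q''⁻¹ * z) * p := by group
            _ = z * (q''⁻¹ * p) := by rw [e4]; group
        calc p * (q' * q''⁻¹) = (p * q') * q''⁻¹ := by group
          _ = (z * q') * (p * q''⁻¹) := by rw [h3]; group
          _ = (q' * z) * (p * q''⁻¹) := by rw [hzc q' hq'R]
          _ = q' * (z * (z * (q''⁻¹ * p))) := by rw [e3]; group
          _ = q' * q''⁻¹ * p := by rw [← mul_assoc z z, h.zz, one_mul]; group
    have hyR : (s * q * s⁻¹) * (s⁻¹ * q * s)⁻¹ ∈ R := R.mul_mem (hsR q hq) (R.inv_mem (hsR' q hq))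
    have hyz := h.ctr _ hyR hy
    set y := (s * q * s⁻¹) * (s⁻¹ * q * s)⁻¹ with hyd
    have hys : s * y = y * s := by
      rcases hyz with h3 | h3
      · rw [h3, mul_one, one_mul]
      · rw [h3, hsz]
    have hyy : y * y = 1 := by
      rcases hyz with h3 | h3
      · rw [h3, mul_one]
      · rw [h3, h.zz]
    have e1 : s * q * s⁻¹ = y * (s⁻¹ * q * s) := by rw [hyd]; group
    have hs2 : s * s = s⁻¹ := by
      have : s * s * s = 1 := by rw [← h3, pow_succ, pow_two]
      exact eq_inv_of_mul_eq_one_left this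
    have e2 : s⁻¹ * q * s = y * q := by
      calc s⁻¹ * q * s = (s * s) * q * (s * s)⁻¹ := by rw [hs2]; group
        _ = s * (s * q * s⁻¹) * s⁻¹ := by group
        _ = (s * y) * (s⁻¹ * q * s) * s⁻¹ := by rw [e1]; group
        _ = y * q := by rw [hys]; group
    have e3 : s * q * s⁻¹ = q := by rw [e1, e2, ← mul_assoc, hyy, one_mul]
    exact e3
  obtain ⟨r, hr, hr'⟩ := hn
  exact hr' (h2 r hr)

end

end Cfsg.Agent.H98.Ex2
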