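import Cfsg.Agent.KFacts.FiTF.FrameF
import Cfsg.Agent.H98.Ex2.Quad

/-!
# `Fi24'`: the elements of order 3 commuting with a `2B` involution (helper98, for the Ore rows)

`bound` : `|C(z) ∩ C(s)| ≤ 78382080` for `s` of order 3 commuting with the tetrad involution `z`.
-/

set_option autoImplicit false
set_option maxRecDepth 100000

namespace Cfsg.Agent.H98.Ex2.FiTwoB

open Cfsg Cfsg.Spor Subgroup
open Cfsg.Agent.KFacts.FiTF
open Cfsg.Agent.KFacts.FiTF.Defs
open Cfsg.Agent.KFacts.FiTF.Orb Cfsg.Agent.KFacts.FiTF.Lin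
open Cfsg.Agent.KFacts.Codes
open Cfsg.Agent.H98.Ex2
open Cfsg.Agent.Lib.PermNetOrbit

/-- `C_K(z)` -/
def C : Subgroup Spor.Fi24 := commutator Spor.Fi24 ⊓ centralizer ({z} : Set Spor.Fi24)

theorem mem_C {g : Spor.Fi24} : g ∈ C ↔ g ∈ commutator Spor.Fi24 ∧ g * z = z * g := by
  rw [C, Subgroup.mem_inf, mem_centralizer_singleton_iff]

theorem E_C {g : Spor.Fi24} (hg : g ∈ E) : g ∈ C := mem_C.2 ⟨frame.EK hg, frame.Ez g hg⟩

theorem sit : Sit C R z where
  zz := frame.zz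
  z1 := frame.z1
  zR := frame.zR
  sq := frame.sq
  com := frame.com
  ctr := frame.ctr
  RC := fun _ hr => E_C (frame.RE hr)
  Cz := fun _ hg => (mem_C.1 hg).2
  CR := fun _ hg => frame.norm _ (mem_C.1 hg).2

theorem card_C : Nat.card C = 160526499840 := by
  have : Finite Spor.Fi24 := Cfsg.Agent.R08.FiTwentyFour.finite_Fi24
  set H := centralizer ({z} : Set Spor.Fi24) with hH
  have h2 : (commutator Spor.Fi24).relIndex H = 2 := by
    have h3 : (commutator Spor.Fi24).relIndex H ∣ 2 := by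
      rw [← Cfsg.Agent.R08.FiTwentyFour.index_commutator]
      exact Subgroup.relIndex_dvd_index_of_normal _ _
    rcases (Nat.dvd_prime Nat.prime_two).1 h3 with h4 | h4
    · exfalso
      rw [Subgroup.relIndex_eq_one] at h4
      refine Cfsg.Agent.R08.FiTwentyFour.odd (Tet.D_mem (t := 0) (i := 0) (by norm_num) (by norm_num)) (h4 ?_)
      exact mem_centralizer_singleton_iff.2 (Tet.z_D (t := 0) (i := 0) (by norm_num) (by norm_num)).symm
    · exact h4
  have h5 : Nat.card H = 321052999680 := Order.card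
  have h6 : (commutator Spor.Fi24).relIndex H * Nat.card ↥(commutator Spor.Fi24 ⊓ H) = Nat.card H := by
    rw [Subgroup.relIndex, ← Subgroup.inf_subgroupOf_right,
      ← Nat.card_congr (Subgroup.subgroupOfEquivOfLe (inf_le_right : commutator Spor.Fi24 ⊓ H ≤ H)).toEquiv,
      Subgroup.index_mul_card]
  rw [h2, h5] at h6
  have h7 : Nat.card C = Nat.card ↥(commutator Spor.Fi24 ⊓ H) := rfl
  omega

/-! ### The elements of order 4 -/

theorem ez_sq {a b : Spor.Fi24} (h : OrbSys.Ez z a b) (hb : b * z = z * b) : a * a = b * b := by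
  rcases h with rfl | rfl
  · rfl
  · calc z * b * (z * b) = z * (b * z) * b := by group
      _ = (z * z) * (b * b) := by rw [hb]; group
      _ = b * b := by rw [frame.zz, one_mul]

theorem cod_z (c : ℕ) : cod 12 z x c * z = z * cod 12 z x c := OrbSys.cod_comm_z RQ.sys.rel c

theorem reach_sq {M k N r : ℕ} (ho : orb ff M k N (2 ^ r) = true) {c : ℕ} (hc : M.testBit c = true)
    {e : ℕ} (he : mulc Om.B 12 r r = e) {v : Spor.Fi24} (hv : v = 1 ∨ v = z) (hev : cod 12 z x e = v) :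
    cod 12 z x c * cod 12 z x c = v := by
  obtain ⟨g, hg, h1⟩ := RQ.sys.reach ho c hc
  have h2 := ez_sq h1 (cod_z c)
  rw [← h2]
  have h3 : cod 12 z x r * cod 12 z x r = v := by
    rw [cod_mul RQ.sys.rel Om.tri, he, hev]
  calc g * cod 12 z x r * g⁻¹ * (g * cod 12 z x r * g⁻¹) = g * (cod 12 z x r * cod 12 z x r) * g⁻¹ := by group
    _ = g * v * g⁻¹ := by rw [h3]
    _ = v := by
      rcases hv with rfl | rfl
      · group
      · rw [frame.Ez g hg]; group

theorem m1 : mulc Om.B 12 1 1 = 0 := by decide +kernel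
theorem m2 : mulc Om.B 12 6 6 = 2 ^ 12 := by decide +kernel
theorem m3 : mulc Om.B 12 17 17 = 0 := by decide +kernel

theorem sq1 {c : ℕ} (hc : Om.OM.testBit c = true) : cod 12 z x c * cod 12 z x c = 1 :=
  reach_sq orb1 hc m1 (Or.inl rfl) cod_zero

theorem sq2 {c : ℕ} (hc : M2.testBit c = true) : cod 12 z x c * cod 12 z x c = z :=
  reach_sq orb2 hc m2 (Or.inr rfl) Cfsg.Agent.KFacts.Codes.cod_z

theorem sq3 {c : ℕ} (hc : M3.testBit c = true) : cod 12 z x c * cod 12 z x c = 1 :=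
  reach_sq orb3 hc m3 (Or.inl rfl) cod_zero

theorem four_code {u : Spor.Fi24} (hu : u ∈ four z R) :
    ∃ c < 4096, M2.testBit c = true ∧ OrbSys.Ez z u (cod 12 z x c) := by
  obtain ⟨hu, hz⟩ := hu
  obtain ⟨c, hc, h1, h2⟩ := RQ.sys.cases hu (fun h => frame.z1 (by rw [← hz, h, mul_one]))
    (fun h => frame.z1 (by rw [← hz, h, frame.zz]))
  have h3 := ez_sq h1 (cod_z c)
  rw [hz] at h3
  rcases h2 with h2 | h2 | h2
  · exact absurd (h3.trans (sq1 h2)) frame.z1
  · exact ⟨c, hc, h2, h1⟩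
  · exact absurd (h3.trans (sq3 h2)) frame.z1

theorem htr : ∀ u ∈ four z R, ∀ t ∈ four z R, ∃ g ∈ C, g * u * g⁻¹ = t ∨ g * u * g⁻¹ = z * t := by
  intro u hu t ht
  obtain ⟨c, -, hc, hc'⟩ := four_code hu
  obtain ⟨d, -, hd, hd'⟩ := four_code ht
  obtain ⟨g, hg, h1⟩ := RQ.sys.trans' orb2 hc hd
  exact ⟨g, E_C hg, ((hc'.conj (frame.Ez g hg)).trans frame.zz h1).trans frame.zz (hd'.symm frame.zz)⟩

theorem pcM2 : pc 12 M2 = 2016 := by decide +kernel

theorem card_omset {M : ℕ} (hM : M < 2 ^ 2 ^ 12) : (OmSet 12 M z x).ncard = 2 * pc 12 M := by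
  classical
  have h1 : OmSet 12 M z x =
      (((bits (2 ^ 12) M ×ˢ Finset.range 2).image fun p : ℕ × ℕ => cod 12 z x (p.1 + 4096 * p.2) : Finset Spor.Fi24) : Set Spor.Fi24) := by
    ext a
    simp only [OmSet, Set.mem_ofPred_eq, Finset.coe_image, Set.mem_image, Finset.mem_coe, Finset.mem_product,
      mem_bits, Finset.mem_range, Prod.exists]
    constructor
    · rintro ⟨c, hc, h2, rfl⟩
      refine ⟨c % 2 ^ 12, c / 4096, ⟨⟨Nat.mod_lt _ (by norm_num), h2⟩, ?_⟩, ?_⟩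
      · norm_num at hc
        omega
      · congr 1
        norm_num
        omega
    · rintro ⟨b, e, ⟨⟨hb, hb'⟩, he⟩, rfl⟩
      norm_num at hb
      refine ⟨b + 4096 * e, ?_, ?_, rfl⟩
      · norm_num
        omega
      · have h3 : (b + 4096 * e) % 2 ^ 12 = b := by norm_num; omega
        rw [h3]
        exact hb'
  rw [h1, Set.ncard_coe_finset, Finset.card_image_of_injOn, Finset.card_product, Finset.card_range,
    ← pc_eq 12 _ hM, mul_comm]
  rintro ⟨b, e⟩ hp ⟨b', e'⟩ hp' he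
  simp only [Finset.coe_product, Set.mem_prod, Finset.mem_coe, mem_bits, Finset.mem_range] at hp hp'
  have h2 := cod_injOn RQ.sys.rel Om.tri Om.nondeg frame.z1 (c := b + 4096 * e) (d := b' + 4096 * e')
    (by norm_num; norm_num at hp; omega) (by norm_num; norm_num at hp'; omega) he
  norm_num at hp hp'
  rw [Prod.mk.injEq]
  omega

theorem card_four : 4032 ≤ (four z R).ncard := by
  have : Finite Spor.Fi24 := Cfsg.Agent.R08.FiTwentyFour.finite_Fi24
  have h1 : OmSet 12 M2 z x ⊆ four z R := by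
    rintro a ⟨c, -, h1, rfl⟩
    refine ⟨cod_mem c, ?_⟩
    rw [ez_sq (OrbSys.ez_mod c) (cod_z _)]
    exact sq2 h1
  have h2 := Set.ncard_le_ncard h1 (Set.toFinite _)
  rw [card_omset lt2, pcM2] at h2
  exact h2

/-- an element of order 3 of `C` does not centralize `R` -/
theorem moves {s : Spor.Fi24} (h3 : s ^ 3 = 1) (h1 : s ≠ 1) : ∃ r ∈ R, s * r * s⁻¹ ≠ r := by
  by_contra h
  push Not at h
  rcases frame.cent s (fun r hr => mul_inv_eq_iff_eq_mul.1 (h r hr)) with h2 | h2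
  · exact h1 h2
  · apply h1
    rw [h2] at h3 ⊢
    calc z = z * (z * z) := by rw [frame.zz, mul_one]
      _ = z ^ 3 := by rw [pow_succ, pow_two]; group
      _ = 1 := h3

theorem card_cls_pow {s : Spor.Fi24} : ∃ j ≤ 13, (cls R s).ncard = 2 ^ j := by
  have h1 := card_cls R s
  have h2 : Nat.card R = 2 ^ 13 := frame.cardR
  rw [h2] at h1
  exact (Nat.dvd_prime_pow Nat.prime_two).1 (Dvd.intro _ h1)

theorem one_lt_cls {s : Spor.Fi24} (h : ∃ r ∈ R, s * r * s⁻¹ ≠ r) : 1 < (cls R s).ncard := by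
  have : Finite Spor.Fi24 := Cfsg.Agent.R08.FiTwentyFour.finite_Fi24
  obtain ⟨r, hr, h1⟩ := h
  rw [Set.one_lt_ncard_iff (Set.toFinite _)]
  refine ⟨s, r * s * r⁻¹, ⟨1, R.one_mem, by group⟩, ⟨r, hr, rfl⟩, ?_⟩
  intro h2
  apply h1
  calc s * r * s⁻¹ = (r * s * r⁻¹) * r * s⁻¹ := by rw [← h2]
    _ = r := by group

/-- at least 2048 conjugates -/
theorem conj_card {s : Spor.Fi24} (hs : s ∈ C) (h3 : s ^ 3 = 1) (h1 : s ≠ 1) : 2048 ≤ (cls C s).ncard := by
  have : Finite Spor.Fi24 := Cfsg.Agent.R08.FiTwentyFour.finite_Fi24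
  have hm := moves h3 h1
  obtain ⟨m, h4, h5⟩ := sit.count hs htr (sit.exists_four hs h3 hm)
  have h6 := sit.four_le s
  have h7 := card_four
  have h8 := one_lt_cls hm
  obtain ⟨j, hj, hj'⟩ := card_cls_pow (s := s)
  rw [hj'] at h5 h6 h8
  set n := (four z R ∩ Wn z R s).ncard with hn
  have h9 : n * m ≤ (2 * 2 ^ j - 2) * m := Nat.mul_le_mul_right _ (by omega)
  generalize n * m = X at h4 h9
  generalize (four z R).ncard = Y at h4 h7
  generalize (cls C s).ncard = N at h5 ⊢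
  clear hj' hn h6
  interval_cases j
  all_goals omega

/-- **the bound in `Fi24`** -/
theorem bound' {s : Spor.Fi24} (hs : s ∈ C) (h3 : s ^ 3 = 1) (h1 : s ≠ 1) :
    Nat.card ↥(C ⊓ centralizer ({s} : Set Spor.Fi24)) ≤ 78382080 := by
  have h4 := card_orb C s
  have h5 := conj_card hs h3 h1
  rw [card_C] at h4
  have h6 : {y | ∃ g ∈ C, g * s * g⁻¹ = y}.ncard = (cls C s).ncard := rfl
  rw [h6] at h4
  by_contra h7
  push Not at h7
  have h8 : 2048 * 78382081 ≤ (cls C s).ncard * Nat.card ↥(C ⊓ centralizer ({s} : Set Spor.Fi24)) :=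
    Nat.mul_le_mul h5 h7
  omega

/-- every tetrad involution is conjugate to `z`, with its tetrad -/
theorem exists_conj {t a b c d : Spor.Fi24} (hT : R08.TetTwo.IsTet R08.FiTwentyFour.L t a b c d) :
    ∃ g ∈ commutator Spor.Fi24, g * t * g⁻¹ = z ∧ g * a * g⁻¹ = D 0 0 ∧ g * b * g⁻¹ = D 0 1 ∧
      g * c * g⁻¹ = D 0 2 ∧ g * d * g⁻¹ = D 0 3 := by
  obtain ⟨g, hg, h1, h2, h3, h4⟩ := R08.TetBig.quad R08.TetBigInst.hyp hT Order.hT
  refine ⟨g, hg, ?_, h1, h2, h3, h4⟩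
  calc g * t * g⁻¹ = g * (a * b * c * d) * g⁻¹ := by rw [hT.prod]
    _ = (g * a * g⁻¹) * (g * b * g⁻¹) * (g * c * g⁻¹) * (g * d * g⁻¹) := by group
    _ = z := by rw [h1, h2, h3, h4, Order.hT.prod]

/-- **(2B)** `|C(t) ∩ C(s)| ≤ 78382080` for a tetrad involution `t` and a commuting element `s` of order 3 -/
theorem bound {t s : Spor.Fi24'} {a b c d : Spor.Fi24}
    (hT : R08.TetTwo.IsTet R08.FiTwentyFour.L (t : Spor.Fi24) a b c d) (hs : orderOf s = 3) (hts : Commute t s) :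
    Nat.card ↥(centralizer ({t} : Set Spor.Fi24') ⊓ centralizer ({s} : Set Spor.Fi24')) ≤ 78382080 := by
  have hfin : Finite Spor.Fi24 := Cfsg.Agent.R08.FiTwentyFour.finite_Fi24
  obtain ⟨g, hg, hgt, -⟩ := exists_conj hT
  have hs3 : (s : Spor.Fi24) ^ 3 = 1 := by
    have h1 : s ^ 3 = 1 := by rw [← hs, pow_orderOf_eq_one]
    exact congrArg Subtype.val h1
  have hs1 : (s : Spor.Fi24) ≠ 1 := by
    intro h
    have h1 : s = 1 := Subtype.ext h
    rw [h1, orderOf_one] at hs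
    omega
  have hN : ∀ k : Spor.Fi24', g * (k : Spor.Fi24) * g⁻¹ ∈ commutator Spor.Fi24 := fun k =>
    Subgroup.mul_mem _ (Subgroup.mul_mem _ hg k.2) (Subgroup.inv_mem _ hg)
  have hcz : ∀ k : Spor.Fi24', k * t = t * k → g * (k : Spor.Fi24) * g⁻¹ ∈ C := by
    intro k hk
    refine mem_C.2 ⟨hN k, ?_⟩
    have hk' : (k : Spor.Fi24) * t = t * k := congrArg Subtype.val hk
    rw [← hgt]
    calc g * (k : Spor.Fi24) * g⁻¹ * (g * t * g⁻¹) = g * ((k : Spor.Fi24) * t) * g⁻¹ := by group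
      _ = g * t * g⁻¹ * (g * (k : Spor.Fi24) * g⁻¹) := by rw [hk']; group
  have h1 : Nat.card ↥(C ⊓ centralizer ({g * (s : Spor.Fi24) * g⁻¹} : Set Spor.Fi24)) ≤ 78382080 := by
    refine bound' (hcz s hts.symm.eq) ?_ ?_
    · rw [conj_pow, hs3]; group
    · intro h
      exact hs1 (conj_eq_one_iff.1 h)
  refine le_trans ?_ h1
  refine Nat.card_le_card_of_injective (fun k : ↥(centralizer ({t} : Set Spor.Fi24') ⊓ centralizer ({s} : Set Spor.Fi24')) =>
    (⟨g * ((k : Spor.Fi24') : Spor.Fi24) * g⁻¹, hcz _ (mem_centralizer_singleton_iff.1 k.2.1), ?_⟩ :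
      ↥(C ⊓ centralizer ({g * (s : Spor.Fi24) * g⁻¹} : Set Spor.Fi24)))) ?_
  · refine mem_centralizer_singleton_iff.2 ?_
    have hk := congrArg (Subtype.val) (mem_centralizer_singleton_iff.1 k.2.2)
    have hk' : ((k : Spor.Fi24') : Spor.Fi24) * s = s * ((k : Spor.Fi24') : Spor.Fi24) := hk
    calc g * ((k : Spor.Fi24') : Spor.Fi24) * g⁻¹ * (g * (s : Spor.Fi24) * g⁻¹) = g * (((k : Spor.Fi24') : Spor.Fi24) * s) * g⁻¹ := by group
      _ = g * (s : Spor.Fi24) * g⁻¹ * (g * ((k : Spor.Fi24') : Spor.Fi24) * g⁻¹) := by rw [hk']; group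
  · intro k k' h
    have h2 : g * ((k : Spor.Fi24') : Spor.Fi24) * g⁻¹ = g * ((k' : Spor.Fi24') : Spor.Fi24) * g⁻¹ := congrArg Subtype.val h
    exact Subtype.ext (Subtype.ext (mul_left_cancel (mul_right_cancel h2)))

end Cfsg.Agent.H98.Ex2.FiTwoB
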